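import Cfsg.Agent.H326.QF.GenV
import Cfsg.Agent.Nodes.RGDLib

/-!
# S2491, row F4: canonical lifts of the root groups from a complement in `V_4` (piece SPLIT)

`π : L → K` a central extension, `K` with a root group datum of type `F₄` in characteristic 2 and the facts `Dat`; `V0 ≤ L` a
complement of `ker π` in `π⁻¹(V_4)`, `V_4 = Sup {x 3 ≥ 1}`, normalised by `π⁻¹(P_4)` (`Cmp`).

* `YY b` : canonical lift of `X b` (`b` long: commutators of long root groups; `b` short: commutators with the torus);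
* `cj_YY` : `YY` is permuted by the representatives of the Weyl group;
* `YY_eq` : `YY b = V0 ⊓ π⁻¹(X b)` for `b 3 ≥ 1`; `map_YY`, `YY_inf` for all positive `b`;
* `comm_YY` : the commutator relations are satisfied exactly.
-/

set_option autoImplicit false
set_option linter.unusedSectionVars false

namespace Cfsg.Agent.H326.QF.Split

open CoxeterSystem Cfsg.Agent.ChevalleyStructure.CoxeterGeom Cfsg.Agent.Tits.Roots Cfsg.Agent.Tits.Core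
  Cfsg.Agent.Tits.RootComb Cfsg.Agent.Nodes.Reps Cfsg.Agent.Nodes.BNOf Cfsg.Agent.Nodes.Coroot
  Cfsg.Agent.Nodes.StabComb Cfsg.Agent.Nodes.Bruhat Cfsg.Agent.Nodes.OppDec Cfsg.Agent.Nodes.LeviDec
  Cfsg.Agent.Nodes.RGDLib
  Cfsg.Agent.KFacts.RgdSL Cfsg.Agent.KFacts.RgdTI Cfsg.Agent.Nodes.RGDTwE6 Cfsg.Agent.KFacts.TwESix.Comb
  Cfsg.Agent.KFacts.TwESix.Btw Cfsg.Agent.KFacts.TwESix.Facts Cfsg.Agent.H326.QS.VP
open scoped commutatorElement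

variable {W K L : Type*} [Group W] [Group K] [Group L] {cs : CoxeterSystem CoxeterMatrix.F₄ W} {T : Subgroup K}
  {n : Fin 4 → K} {X : (Fin 4 → ℤ) → Subgroup K} {R : RGD cs isCartan 2 T n X} {π : L →* K}

/-! ### Definitions -/

/-- the lift of a long root group -/
def Yl (π : L →* K) (X : (Fin 4 → ℤ) → Subgroup K) (b : Fin 4 → ℤ) : Subgroup L :=
  ⨆ p : {p : (Fin 4 → ℤ) × (Fin 4 → ℤ) // p.1 ∈ rts ∧ p.2 ∈ rts ∧ bf p.1 p.1 = 4 ∧ bf p.2 p.2 = 4 ∧ p.1 + p.2 = b},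
    ⁅(X p.1.1).comap π, (X p.1.2).comap π⁆

/-- the lift of a short root group -/
def Ys (π : L →* K) (T : Subgroup K) (X : (Fin 4 → ℤ) → Subgroup K) (b : Fin 4 → ℤ) : Subgroup L :=
  ⁅(X b).comap π, T.comap π⁆

/-- the lift of a root group -/
def YY (π : L →* K) (T : Subgroup K) (X : (Fin 4 → ℤ) → Subgroup K) (b : Fin 4 → ℤ) : Subgroup L :=
  if bf b b = 4 then Yl π X b else Ys π T X b

theorem cj_comap (g : L) (A : Subgroup K) : cj g (A.comap π) = (cj (π g) A).comap π := by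
  ext x
  rw [mem_cj, Subgroup.mem_comap, Subgroup.mem_comap, mem_cj, map_mul, map_mul, map_inv]

theorem cj_commutator (g : L) (A B : Subgroup L) : cj g ⁅A, B⁆ = ⁅cj g A, cj g B⁆ :=
  Subgroup.map_commutator _ _ _

include R in
theorem cj_YY_le {w : W} {g : L} (hg : Rp cs R.nsys w (π g)) {b : Fin 4 → ℤ} (hb : b ∈ rts) :
    cj g (YY π T X b) ≤ YY π T X (rep cs isCartan w b) := by
  unfold YY
  rw [bf_rep]
  split_ifs with h
  · unfold Yl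
    rw [cj_iSup]
    refine iSup_le ?_
    rintro ⟨⟨c, d⟩, hc, hd, hcc, hdd, hcd⟩
    have hc' := (mem_rts cs).2 hc
    have hd' := (mem_rts cs).2 hd
    rw [cj_commutator, cj_comap, cj_comap, R.conj_rp hg hc', R.conj_rp hg hd']
    refine le_iSup_of_le ⟨(rep cs isCartan w c, rep cs isCartan w d), (mem_rts cs).1 (hc'.act w),
      (mem_rts cs).1 (hd'.act w), ?_, ?_, ?_⟩ le_rfl
    · rw [bf_rep]; exact hcc
    · rw [bf_rep]; exact hdd
    · rw [← map_add, hcd]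
  · unfold Ys
    rw [cj_commutator, cj_comap, cj_comap, R.conj_rp hg ((mem_rts cs).2 hb), cj_T R hg]

include R in
/-- **Equivariance.** -/
theorem cj_YY {w : W} {g : L} (hg : Rp cs R.nsys w (π g)) {b : Fin 4 → ℤ} (hb : b ∈ rts) :
    cj g (YY π T X b) = YY π T X (rep cs isCartan w b) := by
  refine le_antisymm (cj_YY_le (R := R) hg hb) ?_
  have hg' : Rp cs R.nsys w⁻¹ (π g⁻¹) := by rw [map_inv]; exact hg.inv
  have h1 := cj_YY_le (R := R) hg' (b := rep cs isCartan w b) ((mem_rts cs).1 (((mem_rts cs).2 hb).act w))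
  rw [rep_inv_apply] at h1
  have h2 := cj_mono g h1
  rwa [cj_cj_inv] at h2

/-! ### Complements -/

/-- `V0` is a complement of the kernel in `π⁻¹(V_4)`, normalised by `π⁻¹(P_4)` -/
structure Cmp (π : L →* K) (T : Subgroup K) (X : (Fin 4 → ℤ) → Subgroup K) (V0 : Subgroup L) : Prop where
  inf : ∀ x ∈ V0, π x = 1 → x = 1
  map : V0.map π = RGD.Sup X (Q (fun x => 1 ≤ x 3))
  nX : ∀ c ∈ rts, 0 ≤ c 3 → ∀ g : L, π g ∈ X c → ∀ x ∈ V0, g * x * g⁻¹ ∈ V0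
  nT : ∀ g : L, π g ∈ T → ∀ x ∈ V0, g * x * g⁻¹ ∈ V0

section

variable {V0 : Subgroup L} (h : Cmp π T X V0)

include h

theorem Cmp.inj {x y : L} (hx : x ∈ V0) (hy : y ∈ V0) (he : π x = π y) : x = y := by
  have h1 := h.inf (x * y⁻¹) (mul_mem hx (inv_mem hy)) (by rw [map_mul, map_inv, he, mul_inv_cancel])
  exact mul_inv_eq_one.1 h1

theorem Cmp.lift {c : Fin 4 → ℤ} (hc : c ∈ rts) (hc3 : 1 ≤ c 3) {x : K} (hx : x ∈ X c) : ∃ v ∈ V0, π v = x := by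
  have h1 : x ∈ V0.map π := by
    rw [h.map]; exact RGD.le_Sup (S := Q (fun x => 1 ≤ x 3)) ⟨hc, hc3⟩ hx
  exact h1

theorem Cmp.comm_left (hcen : π.ker ≤ Subgroup.center L) {c : Fin 4 → ℤ} (hc : c ∈ rts) (hc3 : 1 ≤ c 3) {x y : L}
    (hx : π x ∈ X c) (hy : ∀ v ∈ V0, y * v * y⁻¹ ∈ V0) : ⁅x, y⁆ ∈ V0 := by
  obtain ⟨v, hv, e⟩ := h.lift hc hc3 hx
  have hz : ∀ g, (x * v⁻¹) * g = g * (x * v⁻¹) := fun g =>
    (Subgroup.mem_center_iff.1 (hcen (show x * v⁻¹ ∈ π.ker by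
      rw [MonoidHom.mem_ker, map_mul, map_inv, e, mul_inv_cancel])) g).symm
  have e1 : ⁅x, y⁆ = v * (y * v⁻¹ * y⁻¹) := by
    rw [commutatorElement_def]
    calc x * y * x⁻¹ * y⁻¹ = (x * v⁻¹) * (v * y) * x⁻¹ * y⁻¹ := by group
      _ = (v * y) * (x * v⁻¹) * x⁻¹ * y⁻¹ := by rw [hz]
      _ = (v * y) * ((x * v⁻¹) * x⁻¹) * y⁻¹ := by group
      _ = (v * y) * (x⁻¹ * (x * v⁻¹)) * y⁻¹ := by rw [hz]
      _ = _ := by group
  rw [e1]
  exact mul_mem hv (hy _ (inv_mem hv))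

theorem Cmp.comm_right (hcen : π.ker ≤ Subgroup.center L) {c : Fin 4 → ℤ} (hc : c ∈ rts) (hc3 : 1 ≤ c 3) {x y : L}
    (hx : π x ∈ X c) (hy : ∀ v ∈ V0, y * v * y⁻¹ ∈ V0) : ⁅y, x⁆ ∈ V0 := by
  rw [← commutatorElement_inv]
  exact inv_mem (h.comm_left hcen hc hc3 hx hy)

end

theorem long_sum : ∀ c ∈ rts, bf c c = 4 → ∀ d ∈ rts, bf d d = 4 → (c + d) ∈ rts → bf (c + d) (c + d) = 4 →
    2 * bf c d = - bf c c ∧ (1 ≤ (c + d) 3 → (0 ≤ c 3 ∧ 1 ≤ d 3) ∨ (1 ≤ c 3 ∧ 0 ≤ d 3)) := by decide +kernel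

theorem long_split : ∀ b ∈ rts, bf b b = 4 → ∃ c ∈ rts, bf c c = 4 ∧ (b - c) ∈ rts ∧ bf (b - c) (b - c) = 4 ∧
    2 * bf c (b - c) = - bf c c := by decide +kernel

section

variable (D : Dat R) (hs : Function.Surjective π) (hcen : π.ker ≤ Subgroup.center L) {V0 : Subgroup L}
  (h : Cmp π T X V0)

include D hs hcen h

theorem Yl_eq {b : Fin 4 → ℤ} (hb : b ∈ rts) (hl : bf b b = 4) (h3 : 1 ≤ b 3) :
    Yl π X b = V0 ⊓ (X b).comap π := by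
  have : Finite W := finiteW cs
  have hle : Yl π X b ≤ V0 ⊓ (X b).comap π := by
    refine iSup_le ?_
    rintro ⟨⟨c, d⟩, hc, hd, hcc, hdd, rfl⟩
    obtain ⟨h1, h2⟩ := long_sum c hc hcc d hd hdd hb hl
    rw [Subgroup.commutator_le]
    intro x hx y hy
    refine ⟨?_, ?_⟩
    · rcases h2 h3 with ⟨h4, h5⟩ | ⟨h4, h5⟩
      · exact h.comm_right hcen hd h5 hy (fun v hv => h.nX c hc h4 x hx v hv)
      · exact h.comm_left hcen hc h4 hx (fun v hv => h.nX d hd h5 y hy v hv)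
    · show π ⁅x, y⁆ ∈ X (c + d)
      rw [map_commutatorElement]
      exact (a2 cs ((mem_rts cs).2 hc) ((mem_rts cs).2 hd) (by rw [hcc, hdd]) h1).comm_mem R hx hy
  refine le_antisymm hle ?_
  rintro x ⟨hx, hxb⟩
  obtain ⟨c, hc, hcc, hbc, hbb, h1⟩ := long_split b hb hl
  have hA := a2 cs ((mem_rts cs).2 hc) ((mem_rts cs).2 hbc) (by rw [hcc, hbb]) h1
  obtain ⟨u, hu, hu1⟩ := exists_ne_one R ((mem_rts cs).2 hc)
  have hxb' : π x ∈ X (c + (b - c)) := by rw [add_sub_cancel]; exact hxb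
  obtain ⟨v, hv, e⟩ := hA.comm_surj R hu hu1 hxb'
  obtain ⟨u, rfl⟩ := hs u
  obtain ⟨v, rfl⟩ := hs v
  have h2 : ⁅u, v⁆ ∈ Yl π X b := by
    refine (le_iSup_of_le (f := fun p : {p : (Fin 4 → ℤ) × (Fin 4 → ℤ) // p.1 ∈ rts ∧ p.2 ∈ rts ∧ bf p.1 p.1 = 4 ∧
      bf p.2 p.2 = 4 ∧ p.1 + p.2 = b} => ⁅(X p.1.1).comap π, (X p.1.2).comap π⁆)
      ⟨(c, b - c), hc, hbc, hcc, hbb, add_sub_cancel _ _⟩ le_rfl) ?_
    exact Subgroup.commutator_mem_commutator hu hv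
  have h4 : x = ⁅u, v⁆ := h.inj hx (hle h2).1 (by rw [map_commutatorElement]; exact e.symm)
  rw [h4]
  exact h2

variable (hT : ∀ b ∈ rts, bf b b = 2 → ∀ x ∈ X b, ∃ v ∈ X b, ∃ t ∈ T, x = ⁅v, t⁆)

include hT

theorem Ys_eq {b : Fin 4 → ℤ} (hb : b ∈ rts) (hl : bf b b = 2) (h3 : 1 ≤ b 3) :
    Ys π T X b = V0 ⊓ (X b).comap π := by
  have hle : Ys π T X b ≤ V0 ⊓ (X b).comap π := by
    unfold Ys
    rw [Subgroup.commutator_le]
    intro x hx y hy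
    refine ⟨h.comm_left hcen hb h3 hx (fun v hv => h.nT y hy v hv), ?_⟩
    show π ⁅x, y⁆ ∈ X b
    rw [map_commutatorElement, commutatorElement_def]
    have h1 : π y * (π x)⁻¹ * (π y)⁻¹ ∈ X b := tor_mem R ((mem_rts cs).2 hb) hy (inv_mem hx)
    have e : π x * π y * (π x)⁻¹ * (π y)⁻¹ = π x * (π y * (π x)⁻¹ * (π y)⁻¹) := by group
    rw [e]
    exact mul_mem hx h1
  refine le_antisymm hle ?_
  rintro x ⟨hx, hxb⟩
  obtain ⟨v, hv, t, ht, e⟩ := hT b hb hl _ hxb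
  obtain ⟨v, rfl⟩ := hs v
  obtain ⟨t, rfl⟩ := hs t
  have h2 : ⁅v, t⁆ ∈ Ys π T X b := Subgroup.commutator_mem_commutator hv ht
  have h4 : x = ⁅v, t⁆ := h.inj hx (hle h2).1 (by rw [map_commutatorElement]; exact e)
  rw [h4]
  exact h2

theorem YY_eq {b : Fin 4 → ℤ} (hb : b ∈ rts) (h3 : 1 ≤ b 3) : YY π T X b = V0 ⊓ (X b).comap π := by
  unfold YY
  split_ifs with hl
  · exact Yl_eq D hs hcen h hb hl h3
  · exact Ys_eq D hs hcen h hT hb ((norm_rts b hb).resolve_left hl) h3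

end

/-! ### Weyl elements -/

theorem f1 (cs : CoxeterSystem CoxeterMatrix.F₄ W) (x : Fin 4 → ℤ) :
    rep cs isCartan (cs.simple 3) x 3 = x 2 - x 3 := by
  rw [refl_coord, pairing_eq]; simp; ring

theorem f1' (cs : CoxeterSystem CoxeterMatrix.F₄ W) (x : Fin 4 → ℤ) :
    rep cs isCartan (cs.simple 3) x 2 = x 2 := by
  rw [refl_coord]; simp

theorem f2 (cs : CoxeterSystem CoxeterMatrix.F₄ W) (x : Fin 4 → ℤ) :
    rep cs isCartan (cs.simple 3 * cs.simple 2) x 3 = 2 * x 1 - x 2 := by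
  rw [rep_mul_apply, f1, refl_coord, refl_coord, pairing_eq]; simp; ring

theorem f3 (cs : CoxeterSystem CoxeterMatrix.F₄ W) (x : Fin 4 → ℤ) :
    rep cs isCartan (cs.simple 3 * cs.simple 2 * cs.simple 1) x 3 = 2 * x 0 - 2 * x 1 + x 2 := by
  rw [rep_mul_apply, f2, refl_coord, refl_coord, pairing_eq]; simp; ring

theorem pos_single : ∀ b ∈ rts, (∀ k, 0 ≤ b k) → 1 ≤ b 3 ∨ 1 ≤ b 2 - b 3 ∨ 1 ≤ 2 * b 1 - b 2 ∨
    1 ≤ 2 * b 0 - 2 * b 1 + b 2 := by decide +kernel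

theorem exists_w (cs : CoxeterSystem CoxeterMatrix.F₄ W) {b : Fin 4 → ℤ} (hb : b ∈ rts) (h0 : ∀ k, 0 ≤ b k) :
    ∃ w : W, 1 ≤ rep cs isCartan w b 3 := by
  rcases pos_single b hb h0 with h1 | h1 | h1 | h1
  · exact ⟨1, by rw [map_one]; exact h1⟩
  · exact ⟨_, by rw [f1]; exact h1⟩
  · exact ⟨_, by rw [f2]; exact h1⟩
  · exact ⟨_, by rw [f3]; exact h1⟩

theorem pos_pair : ∀ a ∈ rts, (∀ k, 0 ≤ a k) → ∀ b ∈ rts, (∀ k, 0 ≤ b k) → a ≠ b →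
    (0 ≤ a 3 ∧ 0 ≤ b 3 ∧ 1 ≤ a 3 + b 3) ∨ (0 ≤ a 2 - a 3 ∧ 0 ≤ b 2 - b 3 ∧ 1 ≤ (a 2 - a 3) + (b 2 - b 3)) ∨
      (0 ≤ 2 * a 1 - a 2 ∧ 0 ≤ 2 * b 1 - b 2 ∧ 1 ≤ (2 * a 1 - a 2) + (2 * b 1 - b 2)) := by decide +kernel

theorem exists_w2 (cs : CoxeterSystem CoxeterMatrix.F₄ W) {a b : Fin 4 → ℤ} (ha : a ∈ rts) (ha0 : ∀ k, 0 ≤ a k)
    (hb : b ∈ rts) (hb0 : ∀ k, 0 ≤ b k) (hab : a ≠ b) :
    ∃ w : W, 0 ≤ rep cs isCartan w a 3 ∧ 0 ≤ rep cs isCartan w b 3 ∧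
      1 ≤ rep cs isCartan w a 3 + rep cs isCartan w b 3 := by
  rcases pos_pair a ha ha0 b hb hb0 hab with h1 | h1 | h1
  · exact ⟨1, by rw [map_one]; exact h1⟩
  · exact ⟨_, by rw [f1, f1]; exact h1⟩
  · exact ⟨_, by rw [f2, f2]; exact h1⟩

/-! ### Commutators in `K` -/

theorem bt_pos : ∀ a ∈ rts, (∀ k, 0 ≤ a k) → ∀ b ∈ rts, (∀ k, 0 ≤ b k) → a ≠ b →
    (bf a a = 4 ∧ bf b b = 4 ∧ 0 ≤ bf a b) ∨
      ∀ z ∈ rts, bt a b z → z = a + b ∨ z = a + 2 • b ∨ z = 2 • a + b := by decide +kernel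

theorem nsm (i : ℕ) (a : Fin 4 → ℤ) (k : Fin 4) : (i • a) k = (i : ℤ) * a k := by
  rw [Pi.smul_apply, nsmul_eq_mul]

/-- the index type of the commutators of `X a` and `X b` -/
abbrev Cc (cs : CoxeterSystem CoxeterMatrix.F₄ W) (a b : Fin 4 → ℤ) : Type :=
  {c : Fin 4 → ℤ // IsRoot cs isCartan c ∧ ∃ i j : ℕ, 0 < i ∧ 0 < j ∧ c = i • a + j • b}

section

variable (D : Dat R)

include D

theorem comm_K {a b : Fin 4 → ℤ} (ha : a ∈ rts) (ha0 : ∀ k, 0 ≤ a k) (hb : b ∈ rts) (hb0 : ∀ k, 0 ≤ b k)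
    (hab : a ≠ b) {u v : K} (hu : u ∈ X a) (hv : v ∈ X b) : ⁅u, v⁆ ∈ ⨆ c : Cc cs a b, X c.1 := by
  have : Finite W := finiteW cs
  have ha' := (mem_rts cs).2 ha
  have hb' := (mem_rts cs).2 hb
  have hne : a ≠ -b := by
    intro he
    have h1 : a = 0 := by
      funext k
      have h2 := congrFun he k
      rw [Pi.neg_apply] at h2
      have h3 := ha0 k
      have h4 := hb0 k
      show a k = 0
      omega
    exact ha'.ne_zero h1
  rcases bt_pos a ha ha0 b hb hb0 hab with ⟨h1, h2, h3⟩ | h1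
  · rw [commutatorElement_eq_one_iff_mul_comm.2 (comm_long D ha' hb' h2 h3 hu hv)]
    exact one_mem _
  · refine (?_ : Nodes.Reps.btw cs isCartan X a b ≤ _) (R.comm a b ha' hb' hab hne u hu v hv)
    refine iSup_le ?_
    rintro ⟨z, hz⟩
    obtain ⟨h4, h5⟩ := btwn_spec cs ha' hb' hab hne hz
    have h6 : ∃ i j : ℕ, 0 < i ∧ 0 < j ∧ z = i • a + j • b := by
      rcases h1 z h4 h5 with e | e | e
      · exact ⟨1, 1, one_pos, one_pos, by rw [e, one_smul, one_smul]⟩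
      · exact ⟨1, 2, one_pos, two_pos, by rw [e, one_smul]⟩
      · exact ⟨2, 1, two_pos, one_pos, by rw [e, one_smul]⟩
    exact le_iSup_of_le (f := fun c : Cc cs a b => X c.1) ⟨z, hz.1, h6⟩ le_rfl

variable (hs : Function.Surjective π) (hcen : π.ker ≤ Subgroup.center L) {V0 : Subgroup L} (h : Cmp π T X V0)
  (hT : ∀ b ∈ rts, bf b b = 2 → ∀ x ∈ X b, ∃ v ∈ X b, ∃ t ∈ T, x = ⁅v, t⁆)

include hs hcen h hT

theorem map_YY {b : Fin 4 → ℤ} (hb : b ∈ rts) (hb0 : ∀ k, 0 ≤ b k) : (YY π T X b).map π = X b := by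
  obtain ⟨w, hw⟩ := exists_w cs hb hb0
  obtain ⟨k, hk⟩ := exists_rp cs R.nsys w
  obtain ⟨g, rfl⟩ := hs k
  have hwb := (mem_rts cs).1 (((mem_rts cs).2 hb).act w)
  have h1 : (YY π T X (rep cs isCartan w b)).map π = X (rep cs isCartan w b) := by
    rw [YY_eq D hs hcen h hT hwb hw]
    apply le_antisymm
    · rintro _ ⟨x, ⟨-, hx⟩, rfl⟩
      exact hx
    · intro x hx
      obtain ⟨v, hv, rfl⟩ := h.lift hwb hw hx
      exact ⟨v, ⟨hv, hx⟩, rfl⟩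
  rw [← cj_YY (R := R) hk hb, ← cj_map, ← R.conj_rp hk ((mem_rts cs).2 hb)] at h1
  exact le_antisymm ((cj_le_cj_iff (π g)).1 h1.le) ((cj_le_cj_iff (π g)).1 h1.ge)

theorem YY_ker {b : Fin 4 → ℤ} (hb : b ∈ rts) (hb0 : ∀ k, 0 ≤ b k) {x : L} (hx : x ∈ YY π T X b) (h1 : π x = 1) :
    x = 1 := by
  obtain ⟨w, hw⟩ := exists_w cs hb hb0
  obtain ⟨k, hk⟩ := exists_rp cs R.nsys w
  obtain ⟨g, rfl⟩ := hs k
  have hwb := (mem_rts cs).1 (((mem_rts cs).2 hb).act w)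
  have h2 : g * x * g⁻¹ ∈ YY π T X (rep cs isCartan w b) := by
    rw [← cj_YY (R := R) hk hb]
    exact conj_mem_cj.2 hx
  rw [YY_eq D hs hcen h hT hwb hw] at h2
  have h3 := h.inf _ h2.1 (by rw [map_mul, map_mul, map_inv, h1, mul_one, mul_inv_cancel])
  have h4 : x = g⁻¹ * (g * x * g⁻¹) * g := by group
  rw [h4, h3]; group

/-- **The exact commutator relations.** -/
theorem comm_YY {a b : Fin 4 → ℤ} (ha : a ∈ rts) (ha0 : ∀ k, 0 ≤ a k) (hb : b ∈ rts) (hb0 : ∀ k, 0 ≤ b k)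
    (hab : a ≠ b) : ⁅YY π T X a, YY π T X b⁆ ≤ ⨆ c : Cc cs a b, YY π T X c.1 := by
  obtain ⟨w, hwa, hwb, hw⟩ := exists_w2 cs ha ha0 hb hb0 hab
  obtain ⟨k, hk⟩ := exists_rp cs R.nsys w
  obtain ⟨g, rfl⟩ := hs k
  have hra := (mem_rts cs).1 (((mem_rts cs).2 ha).act w)
  have hrb := (mem_rts cs).1 (((mem_rts cs).2 hb).act w)
  have hpos : ∀ c : Cc cs a b, ∀ k, 0 ≤ c.1 k := by
    rintro ⟨c, hc, i, j, hi, hj, rfl⟩ k
    have h1 := ha0 k
    have h2 := hb0 k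
    show 0 ≤ (i • a + j • b) k
    rw [Pi.add_apply, nsm, nsm]
    exact add_nonneg (mul_nonneg (Int.natCast_nonneg i) h1) (mul_nonneg (Int.natCast_nonneg j) h2)
  rw [Subgroup.commutator_le]
  intro x hx y hy
  have hx' : π x ∈ X a := by rw [← map_YY D hs hcen h hT ha ha0]; exact Subgroup.mem_map_of_mem π hx
  have hy' : π y ∈ X b := by rw [← map_YY D hs hcen h hT hb hb0]; exact Subgroup.mem_map_of_mem π hy
  -- the image
  have h1 : π ⁅x, y⁆ ∈ (⨆ c : Cc cs a b, YY π T X c.1).map π := by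
    rw [map_commutatorElement, Subgroup.map_iSup]
    have h2 := comm_K D ha ha0 hb hb0 hab hx' hy'
    rwa [show (⨆ c : Cc cs a b, (YY π T X c.1).map π) = ⨆ c : Cc cs a b, X c.1 from
      iSup_congr fun c => map_YY D hs hcen h hT ((mem_rts cs).1 c.2.1) (hpos c)]
  obtain ⟨d, hd, e⟩ := h1
  -- conjugates in `V0`
  have hdV : g * d * g⁻¹ ∈ V0 := by
    have h2 : cj g (⨆ c : Cc cs a b, YY π T X c.1) ≤ V0 := by
      rw [cj_iSup]
      refine iSup_le ?_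
      intro c
      have hc := (mem_rts cs).1 c.2.1
      have hwc := (mem_rts cs).1 (c.2.1.act w)
      have h3 : 1 ≤ rep cs isCartan w c.1 3 := by
        obtain ⟨i, j, hi, hj, hcij⟩ := c.2.2
        rw [hcij, map_add, map_nsmul, map_nsmul]
        rw [Pi.add_apply, nsm, nsm]
        have hi' : (1 : ℤ) ≤ i := by exact_mod_cast hi
        have hj' : (1 : ℤ) ≤ j := by exact_mod_cast hj
        nlinarith
      rw [cj_YY (R := R) hk hc, YY_eq D hs hcen h hT hwc h3]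
      exact inf_le_left
    exact h2 (conj_mem_cj.2 hd)
  have hxyV : g * ⁅x, y⁆ * g⁻¹ ∈ V0 := by
    have e1 : g * ⁅x, y⁆ * g⁻¹ = ⁅g * x * g⁻¹, g * y * g⁻¹⁆ := by
      simp only [commutatorElement_def]; group
    have hgx : π (g * x * g⁻¹) ∈ X (rep cs isCartan w a) := by
      rw [map_mul, map_mul, map_inv]; exact R.conj_mem hk ((mem_rts cs).2 ha) hx'
    have hgy : π (g * y * g⁻¹) ∈ X (rep cs isCartan w b) := by
      rw [map_mul, map_mul, map_inv]; exact R.conj_mem hk ((mem_rts cs).2 hb) hy'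
    rw [e1]
    by_cases h5 : 1 ≤ rep cs isCartan w b 3
    · exact h.comm_right hcen hrb h5 hgy (fun v hv => h.nX _ hra hwa _ hgx v hv)
    · exact h.comm_left hcen hra (by omega) hgx (fun v hv => h.nX _ hrb hwb _ hgy v hv)
  have h6 : g * ⁅x, y⁆ * g⁻¹ = g * d * g⁻¹ := h.inj hxyV hdV (by
    rw [map_mul, map_mul, map_mul, map_mul, e])
  have h7 : ⁅x, y⁆ = d := mul_left_cancel (mul_right_cancel h6)
  rw [h7]
  exact hd

end

end Cfsg.Agent.H326.QF.Split
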